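import Groth.Agent.GrpdLib.Main
import Mathlib.RingTheory.HopfAlgebra.Quotient
import Mathlib.RingTheory.HopfAlgebra.Convolution
import Mathlib.RingTheory.Spectrum.Prime.FreeLocus

/-! The quotient of a finite flat group scheme by a finite flat closed subgroup. -/

set_option autoImplicit false
universe u v w

open scoped TensorProduct
open WithConv
open Algebra.TensorProduct (includeLeft includeRight)

set_option maxHeartbeats 400000

namespace GrpQuotLib

/-- Points of a Hopf algebra in any commutative algebra form a group. -/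
noncomputable scoped instance pointsGroup {R : Type u} {H : Type v} {D : Type w} [CommRing R] [CommRing H]
    [HopfAlgebra R H] [CommRing D] [Algebra R D] : Group (WithConv (H →ₐ[R] D)) :=
  { (inferInstance : Monoid (WithConv (H →ₐ[R] D))) with
    inv := fun f => toConv (f.ofConv.comp (HopfAlgebra.antipodeAlgHom R H))
    inv_mul_cancel := fun f => by
      have h := AlgHom.comp_convMul_distrib f.ofConv (toConv (HopfAlgebra.antipodeAlgHom R H))
        (toConv (AlgHom.id R H))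
      rw [AlgHom.antipode_id_cancel] at h
      simp only [AlgHom.comp_id, ofConv_toConv] at h
      apply WithConv.ext
      change _ = _
      refine h.symm.trans ?_
      ext a
      simp }

variable (R : Type u) [CommRing R] {A : Type v} [CommRing A] [HopfAlgebra R A] (I : Ideal A)

/-- The functions invariant under right translation by the subgroup. -/
noncomputable abbrev invB : Subalgebra R A :=
  AlgHom.equalizer
    ((Algebra.TensorProduct.map (AlgHom.id R A) (Ideal.Quotient.mkₐ R I)).comp (Bialgebra.comulAlgHom R A))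
    (includeLeft : A →ₐ[R] A ⊗[R] (A ⧸ I))

/-- The coaction of the subgroup. -/
noncomputable abbrev δ : A →ₐ[R] A ⊗[R] (A ⧸ I) :=
  (Algebra.TensorProduct.map (AlgHom.id R A) (Ideal.Quotient.mkₐ R I)).comp (Bialgebra.comulAlgHom R A)

theorem eq_inv_mul_of_eq {H : Type v} {D : Type w} [CommRing H] [HopfAlgebra R H] [CommRing D] [Algebra R D]
    (X Y Z : WithConv (H →ₐ[R] D)) (h : Z = X * Y) : Y = X⁻¹ * Z := by
  rw [h, ← mul_assoc, inv_mul_cancel, one_mul]

theorem toLinearMap_inv_mul {H : Type v} {D : Type w} [CommRing H] [HopfAlgebra R H] [CommRing D] [Algebra R D]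
    (f : H →ₐ[R] D) : toConv ((toConv f)⁻¹.ofConv.toLinearMap) * toConv f.toLinearMap = 1 :=
  (AlgHom.toLinearMap_convMul (toConv f)⁻¹ (toConv f)).symm.trans
    ((congrArg (fun F : WithConv (H →ₐ[R] D) => toConv F.ofConv.toLinearMap) (inv_mul_cancel (toConv f))).trans
      AlgHom.toLinearMap_convOne)

theorem δ_eq : toConv (δ R I) = toConv (includeLeft : A →ₐ[R] A ⊗[R] (A ⧸ I)) *
    toConv ((includeRight : A ⧸ I →ₐ[R] A ⊗[R] (A ⧸ I)).comp (Ideal.Quotient.mkₐ R I)) := by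
  refine WithConv.ext (AlgHom.ext fun a => ?_)
  change δ R I a = _
  rw [AlgHom.convMul_apply, AlgHom.comp_apply, Bialgebra.comulAlgHom_apply]
  induction (Coalgebra.comul (R := R) a : A ⊗[R] A) using TensorProduct.induction_on with
  | zero => simp
  | tmul x y => simp
  | add x y hx hy => simp only [map_add, hx, hy]

variable [I.IsHopfIdeal R]

theorem convMul_comp_mk {D : Type w} [CommRing D] [Algebra R D] (X Y : WithConv (A ⧸ I →ₐ[R] D)) :
    toConv ((X * Y).ofConv.comp (Ideal.Quotient.mkₐ R I)) =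
      toConv (X.ofConv.comp (Ideal.Quotient.mkₐ R I)) * toConv (Y.ofConv.comp (Ideal.Quotient.mkₐ R I)) :=
  congrArg toConv (AlgHom.convMul_comp_bialgHom_distrib X Y (Bialgebra.Quotient.mkBialgHom I))

theorem inv_comp_mk {D : Type w} [CommRing D] [Algebra R D] (X : WithConv (A ⧸ I →ₐ[R] D)) :
    toConv (X⁻¹.ofConv.comp (Ideal.Quotient.mkₐ R I)) =
      (toConv (X.ofConv.comp (Ideal.Quotient.mkₐ R I)))⁻¹ := by
  refine eq_inv_of_mul_eq_one_left ?_
  rw [← convMul_comp_mk, inv_mul_cancel]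
  rfl

/-- Left inclusion into the composable pairs. -/
noncomputable abbrev inL : A ⊗[R] (A ⧸ I) →ₐ[R] (A ⊗[R] (A ⧸ I)) ⊗[A] (A ⊗[R] (A ⧸ I)) :=
  includeLeft

/-- Right inclusion into the composable pairs. -/
noncomputable abbrev inR : A ⊗[R] (A ⧸ I) →ₐ[R] (A ⊗[R] (A ⧸ I)) ⊗[A] (A ⊗[R] (A ⧸ I)) :=
  (includeRight : A ⊗[R] (A ⧸ I) →ₐ[A] (A ⊗[R] (A ⧸ I)) ⊗[A] (A ⊗[R] (A ⧸ I))).restrictScalars R

/-- The counit of the subgroup, read on pairs. -/
noncomputable abbrev eHom : A ⊗[R] (A ⧸ I) →ₐ[R] A :=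
  Algebra.TensorProduct.lift (AlgHom.id R A) ((Algebra.ofId R A).comp (Bialgebra.counitAlgHom R (A ⧸ I)))
    (fun _ _ => Commute.all _ _)

theorem eHom_δ : (eHom R I).comp (δ R I) = AlgHom.id R A := by
  refine toConv_injective ?_
  have h := AlgHom.comp_convMul_distrib (eHom R I) (toConv (includeLeft : A →ₐ[R] A ⊗[R] (A ⧸ I)))
    (toConv ((includeRight : A ⧸ I →ₐ[R] A ⊗[R] (A ⧸ I)).comp (Ideal.Quotient.mkₐ R I)))
  rw [← δ_eq] at h
  refine (congrArg toConv h).trans ?_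
  simp only [ofConv_toConv, toConv_ofConv]
  have h1 : toConv ((eHom R I).comp (includeLeft : A →ₐ[R] A ⊗[R] (A ⧸ I))) = toConv (AlgHom.id R A) :=
    congrArg toConv (AlgHom.ext fun a => by simp)
  have h2 : toConv ((eHom R I).comp ((includeRight : A ⧸ I →ₐ[R] A ⊗[R] (A ⧸ I)).comp
      (Ideal.Quotient.mkₐ R I))) = 1 := by
    refine WithConv.ext (AlgHom.ext fun a => ?_)
    change eHom R I ((1 : A) ⊗ₜ[R] Ideal.Quotient.mk I a) = algebraMap R A (Coalgebra.counit a)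
    rw [Algebra.TensorProduct.lift_tmul, map_one, one_mul]
    rfl
  rw [h1, h2, mul_one]

section Pairs

variable {D : Type w} [CommRing D] [Algebra R D] (L M : A ⊗[R] (A ⧸ I) →ₐ[R] D)

/-- The group coordinate of the difference of two pairs. -/
noncomputable def hmap : WithConv (A ⧸ I →ₐ[R] D) :=
  (toConv (L.comp includeRight))⁻¹ * toConv (M.comp includeRight)

/-- The difference of two pairs with the same source. -/
noncomputable def pHom : A ⊗[R] (A ⧸ I) →ₐ[R] D :=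
  Algebra.TensorProduct.lift (L.comp (δ R I)) (hmap R I L M).ofConv (fun _ _ => Commute.all _ _)

theorem pHom_δ
    (hLM : L.comp (includeLeft : A →ₐ[R] A ⊗[R] (A ⧸ I)) = M.comp (includeLeft : A →ₐ[R] A ⊗[R] (A ⧸ I))) :
    (pHom R I L M).comp (δ R I) = M.comp (δ R I) := by
  refine toConv_injective ?_
  let j : A →ₐ[R] A ⊗[R] (A ⧸ I) := includeLeft
  let κ : A →ₐ[R] A ⊗[R] (A ⧸ I) :=
    (includeRight : A ⧸ I →ₐ[R] A ⊗[R] (A ⧸ I)).comp (Ideal.Quotient.mkₐ R I)
  have hd : ∀ f : A ⊗[R] (A ⧸ I) →ₐ[R] D,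
      toConv (f.comp (δ R I)) = toConv (f.comp j) * toConv (f.comp κ) := fun f => by
    have h := AlgHom.comp_convMul_distrib f (toConv j) (toConv κ)
    rw [← δ_eq] at h
    exact congrArg toConv h
  have h1 : (pHom R I L M).comp j = L.comp (δ R I) := AlgHom.ext fun a => by
    change pHom R I L M (a ⊗ₜ[R] (1 : A ⧸ I)) = _
    rw [pHom, Algebra.TensorProduct.lift_tmul, map_one, mul_one]
  have h2 : (pHom R I L M).comp κ = (hmap R I L M).ofConv.comp (Ideal.Quotient.mkₐ R I) :=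
    AlgHom.ext fun a => by
      change pHom R I L M ((1 : A) ⊗ₜ[R] Ideal.Quotient.mk I a) = _
      rw [pHom, Algebra.TensorProduct.lift_tmul, map_one, one_mul]
      rfl
  rw [hd, hd, h1, h2, hmap, convMul_comp_mk, inv_comp_mk, hd, show L.comp j = M.comp j from hLM]
  simp only [ofConv_toConv, AlgHom.comp_assoc]
  rw [mul_assoc, ← mul_assoc (toConv (L.comp κ)), mul_inv_cancel, one_mul]

theorem mul_hmap_apply (h : A ⧸ I) : M ((1 : A) ⊗ₜ[R] h) =
    Algebra.TensorProduct.lift (L.comp includeRight) (hmap R I L M).ofConv (fun _ _ => Commute.all _ _)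
      (Coalgebra.comul (R := R) h) := by
  refine Eq.trans ?_ (AlgHom.convMul_apply (toConv (L.comp includeRight)) (hmap R I L M) h)
  rw [hmap, mul_inv_cancel_left]
  rfl

theorem pHom_tmul (a : A) (h : A ⧸ I) :
    pHom R I L M (a ⊗ₜ[R] h) = L (δ R I a) * (hmap R I L M).ofConv h :=
  by rw [pHom, Algebra.TensorProduct.lift_tmul]; rfl

theorem pHom_tmul_one (a : A) : pHom R I L M (a ⊗ₜ[R] (1 : A ⧸ I)) = L (δ R I a) := by
  rw [pHom_tmul, map_one, mul_one]

theorem pHom_one_tmul (h : A ⧸ I) : pHom R I L M ((1 : A) ⊗ₜ[R] h) = (hmap R I L M).ofConv h := by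
  rw [pHom_tmul, map_one, map_one, one_mul]

theorem hmap_apply (h : A ⧸ I) : (hmap R I L M).ofConv h =
    Algebra.TensorProduct.lift ((L.comp includeRight).comp (HopfAlgebra.antipodeAlgHom R (A ⧸ I)))
      (M.comp includeRight) (fun _ _ => Commute.all _ _) (Coalgebra.comul (R := R) h) :=
  by rw [hmap]; exact AlgHom.convMul_apply _ _ h

end Pairs

attribute [irreducible] pHom hmap

theorem inL_apply (z : A ⊗[R] (A ⧸ I)) : inL R I z = z ⊗ₜ[A] (1 : A ⊗[R] (A ⧸ I)) := rfl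

theorem inR_apply (z : A ⊗[R] (A ⧸ I)) : inR R I z = (1 : A ⊗[R] (A ⧸ I)) ⊗ₜ[A] z := rfl

theorem mk_mem_span_δ (a : A) : (1 : A) ⊗ₜ[R] Ideal.Quotient.mk I a ∈
    Submodule.span A (Set.range (δ R I)) := by
  have h : toConv ((includeRight : A ⧸ I →ₐ[R] A ⊗[R] (A ⧸ I)).comp (Ideal.Quotient.mkₐ R I)) =
      (toConv (includeLeft : A →ₐ[R] A ⊗[R] (A ⧸ I)))⁻¹ * toConv (δ R I) :=
    eq_inv_mul_of_eq R (D := A ⊗[R] (A ⧸ I)) _ _ _ (δ_eq R I)
  have h' := congrArg (fun F : WithConv (A →ₐ[R] A ⊗[R] (A ⧸ I)) => F a) h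
  simp only [AlgHom.convMul_apply] at h'
  change (1 : A) ⊗ₜ[R] Ideal.Quotient.mk I a = _ at h'
  rw [h']
  induction (Coalgebra.comul (R := R) a : A ⊗[R] A) using TensorProduct.induction_on with
  | zero => simp
  | tmul x y =>
    rw [Algebra.TensorProduct.lift_tmul]
    change (HopfAlgebra.antipodeAlgHom R A x ⊗ₜ[R] (1 : A ⧸ I)) * δ R I y ∈ _
    rw [show (HopfAlgebra.antipodeAlgHom R A x ⊗ₜ[R] (1 : A ⧸ I)) =
      algebraMap A (A ⊗[R] (A ⧸ I)) (HopfAlgebra.antipodeAlgHom R A x) from rfl, ← Algebra.smul_def]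
    exact Submodule.smul_mem _ _ (Submodule.subset_span ⟨y, rfl⟩)
  | add x y hx hy => rw [map_add]; exact add_mem hx hy

theorem span_δ : Submodule.span A (Set.range (δ R I)) = ⊤ := by
  refine eq_top_iff.2 fun z _ => ?_
  induction z using TensorProduct.induction_on with
  | zero => exact zero_mem _
  | tmul a h =>
    obtain ⟨b, rfl⟩ := Ideal.Quotient.mk_surjective h
    rw [show a ⊗ₜ[R] Ideal.Quotient.mk I b = a • ((1 : A) ⊗ₜ[R] Ideal.Quotient.mk I b) by
      rw [TensorProduct.smul_tmul', smul_eq_mul, mul_one]]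
    exact Submodule.smul_mem _ _ (mk_mem_span_δ R I b)
  | add x y hx hy => exact add_mem (hx trivial) (hy trivial)

theorem span_pHom :
    Submodule.span (A ⊗[R] (A ⧸ I)) (Set.range (pHom R I (D := (A ⊗[R] (A ⧸ I)) ⊗[A] (A ⊗[R] (A ⧸ I))) (inL R I) (inR R I))) = ⊤ := by
  let S := Submodule.span (A ⊗[R] (A ⧸ I)) (Set.range (pHom R I (D := (A ⊗[R] (A ⧸ I)) ⊗[A] (A ⊗[R] (A ⧸ I))) (inL R I) (inR R I)))
  have hι : ∀ h : A ⧸ I, (1 : A ⊗[R] (A ⧸ I)) ⊗ₜ[A] ((1 : A) ⊗ₜ[R] h) ∈ S := by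
    intro h
    rw [← inR_apply]
    rw [mul_hmap_apply R I (D := (A ⊗[R] (A ⧸ I)) ⊗[A] (A ⊗[R] (A ⧸ I))) (inL R I) (inR R I)]
    induction (Coalgebra.comul (R := R) h : (A ⧸ I) ⊗[R] (A ⧸ I)) using TensorProduct.induction_on with
    | zero => rw [map_zero]; exact zero_mem _
    | tmul x y =>
      rw [Algebra.TensorProduct.lift_tmul]
      rw [AlgHom.comp_apply, Algebra.TensorProduct.includeRight_apply, inL_apply]
      rw [show (hmap R I (D := (A ⊗[R] (A ⧸ I)) ⊗[A] (A ⊗[R] (A ⧸ I))) (inL R I) (inR R I)).ofConv y =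
          pHom R I (D := (A ⊗[R] (A ⧸ I)) ⊗[A] (A ⊗[R] (A ⧸ I))) (inL R I) (inR R I) ((1 : A) ⊗ₜ[R] y) from
        (pHom_one_tmul R I (D := (A ⊗[R] (A ⧸ I)) ⊗[A] (A ⊗[R] (A ⧸ I))) (inL R I) (inR R I) y).symm,
        GrpdLib.tmul_one_mul' (R := A)]
      exact Submodule.smul_mem _ _ (Submodule.subset_span ⟨_, rfl⟩)
    | add x y hx hy => rw [map_add]; exact add_mem hx hy
  refine eq_top_iff.2 fun z _ => ?_
  induction z using TensorProduct.induction_on with
  | zero => exact zero_mem _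
  | tmul x y =>
    induction y using TensorProduct.induction_on with
    | zero => rw [TensorProduct.tmul_zero]; exact zero_mem _
    | tmul a h =>
      rw [show x ⊗ₜ[A] (a ⊗ₜ[R] h) = (a • x) • ((1 : A ⊗[R] (A ⧸ I)) ⊗ₜ[A] ((1 : A) ⊗ₜ[R] h)) by
        rw [TensorProduct.smul_tmul' (a • x), smul_eq_mul, mul_one, TensorProduct.smul_tmul,
          TensorProduct.smul_tmul', smul_eq_mul, mul_one]]
      exact Submodule.smul_mem _ _ (hι h)
    | add p q hp hq => rw [TensorProduct.tmul_add]; exact add_mem (hp trivial) (hq trivial)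
  | add x y hx hy => exact add_mem (hx trivial) (hy trivial)

theorem exists_dual (φ : (A ⊗[R] (A ⧸ I)) →ₗ[A] A) :
    ∃ ψ : (A ⊗[R] (A ⧸ I)) ⊗[A] (A ⊗[R] (A ⧸ I)) →ₗ[A ⊗[R] (A ⧸ I)] A ⊗[R] (A ⧸ I),
      ∀ y, ψ (pHom R I (D := (A ⊗[R] (A ⧸ I)) ⊗[A] (A ⊗[R] (A ⧸ I))) (inL R I) (inR R I) y) = δ R I (φ y) := by
  let ι : A ⧸ I →ₐ[R] A ⊗[R] (A ⧸ I) := includeRight
  let F : A ⧸ I →ₗ[R] A ⊗[R] (A ⧸ I) :=
    (δ R I).toLinearMap ∘ₗ (φ.restrictScalars R) ∘ₗ ι.toLinearMap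
  let G : A ⧸ I →ₗ[R] A ⊗[R] (A ⧸ I) := (toConv ι.toLinearMap * toConv F).ofConv
  let g : A ⊗[R] (A ⧸ I) →ₗ[A] A ⊗[R] (A ⧸ I) := G.liftBaseChange A
  let ψ := g.liftBaseChange (A ⊗[R] (A ⧸ I))
  refine ⟨ψ, ?_⟩
  have hh : ∀ h : A ⧸ I, ψ ((hmap R I (D := (A ⊗[R] (A ⧸ I)) ⊗[A] (A ⊗[R] (A ⧸ I))) (inL R I) (inR R I)).ofConv h) = F h := by
    intro h
    have e1 : ψ ((hmap R I (D := (A ⊗[R] (A ⧸ I)) ⊗[A] (A ⊗[R] (A ⧸ I))) (inL R I) (inR R I)).ofConv h) =
        (toConv ((toConv ι)⁻¹.ofConv.toLinearMap) * toConv G) h := by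
      rw [hmap_apply, LinearMap.convMul_apply]
      induction (Coalgebra.comul (R := R) h : (A ⧸ I) ⊗[R] (A ⧸ I)) using TensorProduct.induction_on with
      | zero => simp
      | tmul x y =>
        rw [Algebra.TensorProduct.lift_tmul]
        change ψ (((toConv ι)⁻¹.ofConv x ⊗ₜ[A] (1 : A ⊗[R] (A ⧸ I))) *
          ((1 : A ⊗[R] (A ⧸ I)) ⊗ₜ[A] ι y)) = _
        rw [Algebra.TensorProduct.tmul_mul_tmul, mul_one, one_mul, TensorProduct.map_tmul, LinearMap.mul'_apply]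
        change ψ (_ ⊗ₜ[A] ((1 : A) ⊗ₜ[R] y)) = _
        simp only [ψ, g, LinearMap.liftBaseChange_tmul, one_smul, smul_eq_mul]
        rfl
      | add x y hx hy => simp only [map_add, hx, hy]
    rw [e1]
    simp only [G, toConv_ofConv]
    rw [← mul_assoc]
    rw [toLinearMap_inv_mul R (D := A ⊗[R] (A ⧸ I)) ι, one_mul]
  intro y
  induction y using TensorProduct.induction_on with
  | zero => simp
  | tmul a h =>
    rw [pHom_tmul,
      inL_apply, GrpdLib.tmul_one_mul' (R := A),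
      map_smul, hh, smul_eq_mul]
    change δ R I a * δ R I (φ ((1 : A) ⊗ₜ[R] h)) = _
    rw [← map_mul, ← smul_eq_mul a, ← map_smul φ, TensorProduct.smul_tmul', smul_eq_mul, mul_one]
  | add x y hx hy => simp only [map_add, hx, hy]

theorem pHom_δ_apply (a : A) :
    pHom R I (D := (A ⊗[R] (A ⧸ I)) ⊗[A] (A ⊗[R] (A ⧸ I))) (inL R I) (inR R I) (δ R I a) =
      (1 : A ⊗[R] (A ⧸ I)) ⊗ₜ[A] δ R I a := by
  have hLM : (inL R I).comp (includeLeft : A →ₐ[R] A ⊗[R] (A ⧸ I)) =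
      (inR R I).comp (includeLeft : A →ₐ[R] A ⊗[R] (A ⧸ I)) := AlgHom.ext fun b => by
    change (b ⊗ₜ[R] (1 : A ⧸ I)) ⊗ₜ[A] (1 : A ⊗[R] (A ⧸ I)) =
      (1 : A ⊗[R] (A ⧸ I)) ⊗ₜ[A] (b ⊗ₜ[R] (1 : A ⧸ I))
    rw [show b ⊗ₜ[R] (1 : A ⧸ I) = b • (1 : A ⊗[R] (A ⧸ I)) by
      rw [Algebra.TensorProduct.one_def, TensorProduct.smul_tmul', smul_eq_mul, mul_one],
      TensorProduct.smul_tmul]
  exact (AlgHom.congr_fun
    (pHom_δ R I (D := (A ⊗[R] (A ⧸ I)) ⊗[A] (A ⊗[R] (A ⧸ I))) (inL R I) (inR R I) hLM) a).trans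
    (inR_apply R I (δ R I a))

/-- The equivalence relation of right cosets, as ring data. -/
noncomputable def eqvRel : GrpdLib.EqvRel A (A ⊗[R] (A ⧸ I)) where
  t := (δ R I).toRingHom
  e := (eHom R I).toRingHom
  p := (pHom R I (D := (A ⊗[R] (A ⧸ I)) ⊗[A] (A ⊗[R] (A ⧸ I))) (inL R I) (inR R I)).toRingHom
  e_s a := by
    change eHom R I (a ⊗ₜ[R] (1 : A ⧸ I)) = a
    rw [Algebra.TensorProduct.lift_tmul, map_one, mul_one]
    rfl
  e_t a := AlgHom.congr_fun (eHom_δ R I) a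
  p_s a := (pHom_tmul_one R I (D := (A ⊗[R] (A ⧸ I)) ⊗[A] (A ⊗[R] (A ⧸ I))) (inL R I) (inR R I) a).trans
    (inL_apply R I (δ R I a))
  p_t a := pHom_δ_apply R I a
  p_span := span_pHom R I
  p_dual φ := exists_dual R I φ
  t_span := span_δ R I

/-- The invariants of the equivalence relation, as a subalgebra. -/
noncomputable abbrev invE : Subalgebra R A :=
  { (eqvRel R I).inv.toSubsemiring with
    algebraMap_mem' := fun r => by
      change algebraMap A (A ⊗[R] (A ⧸ I)) (algebraMap R A r) = δ R I (algebraMap R A r)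
      rw [AlgHom.commutes]
      rfl }

theorem invE_eq : invE R I = invB R I :=
  SetLike.ext fun a => ⟨fun h => Eq.symm h, fun h => Eq.symm h⟩

theorem faithfullyFlat_invB [Module.Finite R A] [Module.Projective R (A ⧸ I)] :
    Module.FaithfullyFlat (invB R I) A := by
  rw [← invE_eq]
  exact (eqvRel R I).faithfullyFlat_inv

theorem finite_invB [Module.Finite R A] [Module.Projective R (A ⧸ I)] :
    Module.Finite (invB R I) A := by
  rw [← invE_eq]
  exact (eqvRel R I).finite_inv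

end GrpQuotLib
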