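import Groth.Agent.GrpQuotLib.Rank
import Groth.Agent.DynLib.Basic
import Groth.Prelude.Def_SGA3
import Mathlib.RingTheory.Flat.Tensor

/-! The quotient by a normal subgroup is a group. -/

set_option autoImplicit false
universe u

open scoped TensorProduct
open WithConv
open Algebra.TensorProduct (includeLeft includeRight)

set_option maxHeartbeats 400000
set_option synthInstance.maxHeartbeats 400000
set_option synthInstance.maxSize 1024

namespace GrpQuotLib

variable {R : Type u} [CommRing R] {A : Type u} [CommRing A] [HopfAlgebra R A] {I : Ideal A}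
  {T : Type u} [CommRing T] [Algebra R T]

theorem point_apply {x : A} (hx : x ∈ invB R I) (g : WithConv (A →ₐ[R] T)) (h : A ⧸ I →ₐ[R] T) :
    (g * toConv (h.comp (Ideal.Quotient.mkₐ R I))).ofConv x = g.ofConv x := by
  let L := Algebra.TensorProduct.lift g.ofConv h (fun _ _ => Commute.all _ _)
  have e1 : L.comp (includeLeft : A →ₐ[R] A ⊗[R] (A ⧸ I)) = g.ofConv := AlgHom.ext fun a => by simp [L]
  have e2 : L.comp (includeRight : A ⧸ I →ₐ[R] A ⊗[R] (A ⧸ I)) = h := AlgHom.ext fun a => by simp [L]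
  have e := AlgHom.comp_convMul_distrib L (toConv (includeLeft : A →ₐ[R] A ⊗[R] (A ⧸ I)))
    (toConv ((includeRight : A ⧸ I →ₐ[R] A ⊗[R] (A ⧸ I)).comp (Ideal.Quotient.mkₐ R I)))
  rw [← δ_eq] at e
  simp only [ofConv_toConv, toConv_ofConv, ← AlgHom.comp_assoc, e1, e2] at e
  rw [← e]
  change L (δ R I x) = _
  rw [show δ R I x = (includeLeft : A →ₐ[R] A ⊗[R] (A ⧸ I)) x from hx]
  exact AlgHom.congr_fun e1 x

variable [I.IsHopfIdeal R] (hI : SGA3.IsNormalHopfIdeal R A I)
include hI

theorem left_invariant {x : A} (hx : x ∈ invB R I) (g g' : WithConv (A →ₐ[R] T)) (h : A ⧸ I →ₐ[R] T) :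
    (g * toConv (h.comp (Ideal.Quotient.mkₐ R I)) * g').ofConv x = (g * g').ofConv x := by
  let H : WithConv (A →ₐ[R] T) := toConv (h.comp (Ideal.Quotient.mkₐ R I))
  have hz : ∀ a ∈ I, (g'⁻¹ * H * g'⁻¹⁻¹).ofConv a = 0 := fun a ha => by
    have h1 := hI T g'⁻¹.ofConv H.ofConv (fun b hb => by
      change h (Ideal.Quotient.mk I b) = 0
      rw [Ideal.Quotient.eq_zero_iff_mem.2 hb, map_zero]) a ha
    rw [Groth.Agent.DynLib.conv3_eq] at h1
    exact h1
  let h' : A ⧸ I →ₐ[R] T := Ideal.Quotient.liftₐ I (g'⁻¹ * H * g'⁻¹⁻¹).ofConv hz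
  have hh' : g'⁻¹ * H * g'⁻¹⁻¹ = toConv (h'.comp (Ideal.Quotient.mkₐ R I)) :=
    WithConv.ext (AlgHom.ext fun a => rfl)
  rw [show g * toConv (h.comp (Ideal.Quotient.mkₐ R I)) * g' = g * g' * (g'⁻¹ * H * g'⁻¹⁻¹) by
    rw [inv_inv]; group; rfl, hh', point_apply hx]

theorem antipode_mem {x : A} (hx : x ∈ invB R I) : HopfAlgebra.antipode R x ∈ invB R I := by
  let a : WithConv (A →ₐ[R] A ⊗[R] (A ⧸ I)) := toConv includeLeft
  let h : WithConv (A ⧸ I →ₐ[R] A ⊗[R] (A ⧸ I)) := toConv includeRight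
  rw [invB, AlgHom.mem_equalizer]
  change δ R I (HopfAlgebra.antipodeAlgHom R A x) = a⁻¹.ofConv x
  rw [show δ R I (HopfAlgebra.antipodeAlgHom R A x) =
    (a * toConv ((h.ofConv).comp (Ideal.Quotient.mkₐ R I)))⁻¹.ofConv x from
      AlgHom.congr_fun (congrArg (fun F : WithConv (A →ₐ[R] A ⊗[R] (A ⧸ I)) => F⁻¹.ofConv) (δ_eq R I)) x,
    show (a * toConv (h.ofConv.comp (Ideal.Quotient.mkₐ R I)))⁻¹ =
      (toConv (h.ofConv.comp (Ideal.Quotient.mkₐ R I)))⁻¹ * a⁻¹ from
        @mul_inv_rev (WithConv (A →ₐ[R] A ⊗[R] (A ⧸ I))) _ a _, ← inv_comp_mk R I h, ← one_mul (toConv _ : WithConv (A →ₐ[R] A ⊗[R] (A ⧸ I))),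
    left_invariant hI hx, one_mul]

omit hI in
/-- Equalisers commute with flat tensor products. -/
theorem mem_range_rTensor_equalizer {C : Type u} [CommRing C] [Algebra R C] [Module.Flat R A]
    (d i : A →ₐ[R] C) {z : A ⊗[R] A}
    (hz : Algebra.TensorProduct.map d (AlgHom.id R A) z = Algebra.TensorProduct.map i (AlgHom.id R A) z) :
    z ∈ LinearMap.range ((AlgHom.equalizer d i).val.toLinearMap.rTensor A) := by
  let f : A →ₗ[R] C := d.toLinearMap - i.toLinearMap
  have hex : Function.Exact (AlgHom.equalizer d i).val.toLinearMap f := fun y =>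
    ⟨fun h => ⟨⟨y, sub_eq_zero.1 h⟩, rfl⟩, fun ⟨b, hb⟩ => hb ▸ sub_eq_zero.2 b.2⟩
  refine (Module.Flat.rTensor_exact A hex z).1 ?_
  rw [LinearMap.rTensor_sub, LinearMap.sub_apply]
  exact sub_eq_zero.2 hz

theorem map_comul_left {C : Type u} [CommRing C] [Algebra R C] (d i : A →ₐ[R] C) (h : A ⧸ I →ₐ[R] C)
    (hd : toConv d = toConv i * toConv (h.comp (Ideal.Quotient.mkₐ R I))) {x : A} (hx : x ∈ invB R I) :
    Algebra.TensorProduct.map d (AlgHom.id R A) (Coalgebra.comul (R := R) x) =
      Algebra.TensorProduct.map i (AlgHom.id R A) (Coalgebra.comul (R := R) x) := by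
  let iL : C →ₐ[R] C ⊗[R] A := includeLeft
  let b : WithConv (A →ₐ[R] C ⊗[R] A) := toConv includeRight
  have key : ∀ φ : A →ₐ[R] C,
      Algebra.TensorProduct.map φ (AlgHom.id R A) (Coalgebra.comul (R := R) x) =
        (toConv (iL.comp φ) * b).ofConv x := fun φ => by
    change _ = (toConv (iL.comp φ) * b) x
    rw [AlgHom.convMul_apply]
    induction (Coalgebra.comul (R := R) x : A ⊗[R] A) using TensorProduct.induction_on with
    | zero => simp
    | tmul p q => simp [b, iL]
    | add p q hp hq => simp only [map_add, hp, hq]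
  have hd' : toConv (iL.comp d) = toConv (iL.comp i) * toConv ((iL.comp h).comp (Ideal.Quotient.mkₐ R I)) := by
    have := AlgHom.comp_convMul_distrib iL (toConv i) (toConv (h.comp (Ideal.Quotient.mkₐ R I)))
    rw [← hd] at this
    exact congrArg toConv this
  rw [key, key, hd']
  exact left_invariant hI hx _ b _

omit hI in
theorem map_comul_right {C : Type u} [CommRing C] [Algebra R C] (d i : A →ₐ[R] C) (h : A ⧸ I →ₐ[R] C)
    (hd : toConv d = toConv i * toConv (h.comp (Ideal.Quotient.mkₐ R I))) {x : A} (hx : x ∈ invB R I) :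
    Algebra.TensorProduct.map d (AlgHom.id R A) (TensorProduct.comm R A A (Coalgebra.comul (R := R) x)) =
      Algebra.TensorProduct.map i (AlgHom.id R A) (TensorProduct.comm R A A (Coalgebra.comul (R := R) x)) := by
  let iL : C →ₐ[R] C ⊗[R] A := includeLeft
  let c : WithConv (A →ₐ[R] C ⊗[R] A) := toConv includeRight
  have key : ∀ φ : A →ₐ[R] C,
      Algebra.TensorProduct.map φ (AlgHom.id R A) (TensorProduct.comm R A A (Coalgebra.comul (R := R) x)) =
        (c * toConv (iL.comp φ)).ofConv x := fun φ => by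
    change _ = (c * toConv (iL.comp φ)) x
    rw [AlgHom.convMul_apply]
    induction (Coalgebra.comul (R := R) x : A ⊗[R] A) using TensorProduct.induction_on with
    | zero => simp
    | tmul p q => simp [c, iL]
    | add p q hp hq => simp only [map_add, hp, hq]
  have hd' : toConv (iL.comp d) = toConv (iL.comp i) * toConv ((iL.comp h).comp (Ideal.Quotient.mkₐ R I)) := by
    have := AlgHom.comp_convMul_distrib iL (toConv i) (toConv (h.comp (Ideal.Quotient.mkₐ R I)))
    rw [← hd] at this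
    exact congrArg toConv this
  rw [key, key, hd', ← mul_assoc]
  exact point_apply hx _ _

theorem comul_mem_rTensor [Module.Flat R A] {x : A} (hx : x ∈ invB R I) :
    (Coalgebra.comul (R := R) x : A ⊗[R] A) ∈ LinearMap.range ((invB R I).val.toLinearMap.rTensor A) :=
  mem_range_rTensor_equalizer (C := A ⊗[R] (A ⧸ I)) (δ R I) includeLeft
    (map_comul_left hI (C := A ⊗[R] (A ⧸ I)) (δ R I) includeLeft includeRight (δ_eq R I) hx)

omit hI in
theorem comul_mem_lTensor [Module.Flat R A] {x : A} (hx : x ∈ invB R I) :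
    (Coalgebra.comul (R := R) x : A ⊗[R] A) ∈ LinearMap.range ((invB R I).val.toLinearMap.lTensor A) := by
  let v := (invB R I).val.toLinearMap
  obtain ⟨y, hy⟩ : TensorProduct.comm R A A (Coalgebra.comul (R := R) x) ∈ LinearMap.range (v.rTensor A) :=
    mem_range_rTensor_equalizer (C := A ⊗[R] (A ⧸ I)) (δ R I) includeLeft
      (map_comul_right (C := A ⊗[R] (A ⧸ I)) (δ R I) includeLeft includeRight (δ_eq R I) hx)
  refine ⟨TensorProduct.comm R _ _ y, ?_⟩
  rw [← (TensorProduct.comm R A A).symm_apply_apply (Coalgebra.comul (R := R) x), ← hy]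
  clear hy
  induction y using TensorProduct.induction_on with
  | zero => simp
  | tmul p q => simp [v]
  | add p q hp hq => simp only [map_add, hp, hq]

theorem isHopfSubalgebra_invB [Module.Flat R A] [Module.Finite R A] [Module.Projective R A] [IsNoetherianRing R]
    [Module.Projective R (A ⧸ I)] : SGA3.IsHopfSubalgebra R A (invB R I) := by
  refine ⟨fun x hx => ?_, fun x hx => antipode_mem hI hx⟩
  have := faithfullyFlat_invB R I
  have := finite_invB R I
  have := projective_invB_A R I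
  obtain ⟨φ, hφ⟩ := exists_leftInverse (B := invB R I) (A := A)
  let v := (invB R I).val.toLinearMap
  let P : A →ₗ[R] invB R I := φ.restrictScalars R
  have hP : P ∘ₗ v = LinearMap.id := LinearMap.ext fun b => by
    change φ (b : A) = b
    rw [show ((b : invB R I) : A) = b • (1 : A) from (mul_one (b : A)).symm, map_smul, hφ, smul_eq_mul, mul_one]
  obtain ⟨y, hy⟩ := comul_mem_rTensor hI hx
  obtain ⟨z, hz⟩ := comul_mem_lTensor (R := R) hx
  refine ⟨TensorProduct.map P P (Coalgebra.comul x), ?_⟩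
  change TensorProduct.map v v (TensorProduct.map P P (Coalgebra.comul x)) = _
  rw [← LinearMap.comp_apply, ← TensorProduct.map_comp, ← LinearMap.lTensor_comp_rTensor, LinearMap.comp_apply]
  have h1 : (v ∘ₗ P).rTensor A (Coalgebra.comul x) = (Coalgebra.comul x : A ⊗[R] A) := by
    rw [← hy, ← LinearMap.comp_apply, ← LinearMap.rTensor_comp, LinearMap.comp_assoc, hP, LinearMap.comp_id]
  rw [h1, ← hz, ← LinearMap.comp_apply, ← LinearMap.lTensor_comp, LinearMap.comp_assoc, hP, LinearMap.comp_id]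

end GrpQuotLib
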