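import Mathlib.RingTheory.Spectrum.Prime.FreeLocus
import Mathlib.RingTheory.LocalRing.Module
import Mathlib.RingTheory.IsTensorProduct
import Mathlib.RingTheory.Artinian.Ring
import Mathlib.RingTheory.Flat.FaithfullyFlat.Algebra

/-! Ranks in towers and split subalgebras. -/

set_option autoImplicit false
universe u v w

open scoped TensorProduct
open Module

namespace GrpQuotLib

attribute [local instance] Algebra.TensorProduct.rightAlgebra

theorem rankAtStalk_tower {R : Type u} {B : Type v} {M : Type w} [CommRing R] [CommRing B] [Algebra R B]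
    [Module.Finite R B] [Module.Flat R B] [AddCommGroup M] [Module R M] [Module B M] [IsScalarTower R B M]
    [Module.Finite B M] [Module.Flat B M] (q : PrimeSpectrum R) (r : ℕ)
    (h : ∀ Q : PrimeSpectrum B, Q.comap (algebraMap R B) = q → rankAtStalk M Q = r) :
    rankAtStalk M q = r * rankAtStalk B q := by
  have : Module.Finite R M := Module.Finite.trans B M
  have : Module.Flat R M := Module.Flat.trans R B M
  let k := q.asIdeal.ResidueField
  rw [rankAtStalk_eq, rankAtStalk_eq]
  change finrank k (k ⊗[R] M) = r * finrank k (k ⊗[R] B)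
  let B' := k ⊗[R] B
  let e : B' ⊗[B] M ≃ₗ[k] k ⊗[R] M := Algebra.IsPushout.cancelBaseChange R k B B' M
  rw [← e.finrank_eq]
  cases subsingleton_or_nontrivial B' with
  | inl hB =>
    have : Subsingleton (B' ⊗[B] M) := Module.subsingleton B' _
    rw [finrank_zero_of_subsingleton, finrank_zero_of_subsingleton, mul_zero]
  | inr hB =>
    have hr : ∀ P : PrimeSpectrum B', rankAtStalk (B' ⊗[B] M) P = r := fun P => by
      rw [rankAtStalk_baseChange]
      refine h _ ?_
      have : Subsingleton (PrimeSpectrum k) := inferInstance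
      rw [← PrimeSpectrum.comap_comp_apply, ← IsScalarTower.algebraMap_eq,
        IsScalarTower.algebraMap_eq R k B', PrimeSpectrum.comap_comp_apply,
        Subsingleton.elim (PrimeSpectrum.comap (algebraMap k B') P) ⊥]
      exact PrimeSpectrum.ext (Ideal.ker_algebraMap_residueField q.asIdeal)
    have : IsArtinianRing B' := IsArtinianRing.of_finite k B'
    have hfree : Module.Free B' (B' ⊗[B] M) := by
      refine free_of_flat_of_finrank_eq B' _ r fun P => ?_
      let := Ideal.Quotient.field P.1
      have h1 : rankAtStalk ((B' ⧸ P.1) ⊗[B'] (B' ⊗[B] M)) (⊥ : PrimeSpectrum (B' ⧸ P.1)) =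
          finrank (B' ⧸ P.1) ((B' ⧸ P.1) ⊗[B'] (B' ⊗[B] M)) :=
        congrFun rankAtStalk_eq_finrank_of_free _
      rw [← h1, rankAtStalk_baseChange, hr]
    have h2 : finrank B' (B' ⊗[B] M) = r := by
      obtain ⟨P⟩ := (inferInstance : Nonempty (PrimeSpectrum B'))
      have h3 : rankAtStalk (B' ⊗[B] M) P = finrank B' (B' ⊗[B] M) :=
        congrFun rankAtStalk_eq_finrank_of_free P
      rw [← h3, hr]
    rw [← Module.finrank_mul_finrank k B' (B' ⊗[B] M), h2, mul_comm]

theorem exists_leftInverse {B : Type u} {A : Type v} [CommRing B] [CommRing A] [Algebra B A]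
    [Module.FaithfullyFlat B A] [Module.Finite B A] [Module.Projective B A] :
    ∃ φ : A →ₗ[B] B, φ 1 = 1 := by
  obtain ⟨n, f, g, -, -, hfg⟩ := Module.Finite.exists_comp_eq_id_of_projective B A
  let J : Ideal B := Ideal.span (Set.range (g 1))
  have hJ : J = ⊤ := by
    by_contra hJ
    obtain ⟨m, hm, hle⟩ := Ideal.exists_le_maximal J hJ
    have h1 : (1 : A) ∈ m • (⊤ : Submodule B A) := by
      rw [show (1 : A) = f (g 1) from (LinearMap.congr_fun hfg 1).symm, pi_eq_sum_univ (g 1), map_sum]
      refine Submodule.sum_mem _ fun i _ => ?_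
      rw [map_smul]
      exact Submodule.smul_mem_smul (hle (Ideal.subset_span ⟨i, rfl⟩)) trivial
    refine Module.FaithfullyFlat.submodule_ne_top (M := A) hm ?_
    rw [eq_top_iff]
    intro a _
    rw [Ideal.smul_top_eq_map] at h1 ⊢
    have h2 : (Ideal.map (algebraMap B A) m) = ⊤ := (Ideal.eq_top_iff_one _).2 h1
    rw [h2]
    trivial
  obtain ⟨c, hc⟩ := (Ideal.mem_span_range_iff_exists_fun).1 ((Ideal.eq_top_iff_one J).1 hJ)
  refine ⟨(∑ i, c i • LinearMap.proj i) ∘ₗ g, ?_⟩
  simpa using hc

end GrpQuotLib
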