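import Groth.Agent.GrpQuotLib.Basic
import Groth.Agent.GrpQuotLib.Tower

/-! The invariants and their ranks. -/

set_option autoImplicit false
universe u v

open scoped TensorProduct
open Module

namespace GrpQuotLib

variable (R : Type u) [CommRing R] {A : Type v} [CommRing A] [HopfAlgebra R A] [Module.Finite R A]
  (I : Ideal A) [I.IsHopfIdeal R] [Module.Projective R (A ⧸ I)]

theorem rankAtStalk_invB (Q : PrimeSpectrum (invB R I)) :
    rankAtStalk A Q = rankAtStalk (A ⧸ I) (Q.comap (algebraMap R (invB R I))) := by
  revert Q
  rw [← invE_eq]
  intro Q
  have hff : Module.FaithfullyFlat (invE R I) A := (eqvRel R I).faithfullyFlat_inv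
  have hfin : Module.Finite (invE R I) A := (eqvRel R I).finite_inv
  obtain ⟨P, rfl⟩ := PrimeSpectrum.comap_surjective_of_faithfullyFlat (A := invE R I) (B := A) Q
  rw [← PrimeSpectrum.comap_comp_apply, ← IsScalarTower.algebraMap_eq, ← rankAtStalk_baseChange,
    ← rankAtStalk_baseChange (M := A ⧸ I)]
  exact congrFun (rankAtStalk_eq_of_equiv (eqvRel R I).compEquiv.toLinearEquiv) P

theorem projective_invB_A [IsNoetherianRing R] : Module.Projective (invB R I) A := by
  have := faithfullyFlat_invB R I
  have := finite_invB R I
  have : Module.Finite R (invB R I) := Module.Finite.of_injective (invB R I).val.toLinearMap Subtype.val_injective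
  have : IsNoetherianRing (invB R I) := IsNoetherianRing.of_finite R _
  have : Module.FinitePresentation (invB R I) A := Module.finitePresentation_of_finite _ _
  exact Module.Flat.projective_of_finitePresentation

theorem finite_invB_self [IsNoetherianRing R] : Module.Finite R (invB R I) :=
  Module.Finite.of_injective (invB R I).val.toLinearMap Subtype.val_injective

theorem projective_invB_self [IsNoetherianRing R] [Module.Projective R A] :
    Module.Projective R (invB R I) := by
  have := faithfullyFlat_invB R I
  have := finite_invB R I
  have := projective_invB_A R I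
  obtain ⟨φ, hφ⟩ := exists_leftInverse (B := invB R I) (A := A)
  refine Module.Projective.of_split (Algebra.linearMap (invB R I) A |>.restrictScalars R)
    (φ.restrictScalars R) (LinearMap.ext fun b => ?_)
  change φ (algebraMap (invB R I) A b) = b
  rw [Algebra.algebraMap_eq_smul_one, map_smul, hφ, smul_eq_mul, mul_one]

theorem rankAtStalk_mul [IsNoetherianRing R] [Module.Projective R A] (q : PrimeSpectrum R) :
    rankAtStalk A q = rankAtStalk (A ⧸ I) q * rankAtStalk (invB R I) q := by
  have := faithfullyFlat_invB R I
  have := finite_invB R I
  have := projective_invB_self R I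
  have := finite_invB_self R I
  exact rankAtStalk_tower (B := invB R I) q _ fun Q hQ => by rw [rankAtStalk_invB, hQ]

end GrpQuotLib
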